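import Groth.Agent.Lib.EtDesc24.PullVia
import Groth.Agent.Lib.EtDesc24.SetsPush

/-!
# Base change in degree zero against counits

For a commutative square, the transpose of the base change map is the counit of the other side.
-/

universe u

open CategoryTheory CategoryTheory.Limits AlgebraicGeometry Opposite

set_option backward.isDefEq.respectTransparency.types false

namespace Groth.Agent.Modif24

open Groth.Agent.EtStalk hiding agree isOpen_agree mem_agree_iff_germ agree_symm agree_trans agree_self eq_of_agree mem_agree_map mem_agree_unit baseChange0_germ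
open Groth.Agent.EtDesc24 (baseChange0_germ stalk_pullVia)

lemma hom_ext_stalk {Y : Scheme.{u}} {G H : EtDesc.Sh Y} {α β : G ⟶ H}
    (h : ∀ (Ω : Type u) [Field Ω] [IsSepClosed Ω] (ξ : Spec (CommRingCat.of Ω) ⟶ Y) (p : (Sets.stalk ξ).obj G),
      (Sets.stalk ξ).map α p = (Sets.stalk ξ).map β p) : α = β := by
  refine Sheaf.hom_ext (NatTrans.ext (funext fun V => ConcreteCategory.hom_ext _ _ fun s => ?_))
  obtain ⟨V⟩ := V
  refine Sets.ext_germ _ _ fun Ω _ _ ξ x => ?_
  exact (Sets.germ_nat ξ α x s).symm.trans ((h Ω ξ _).trans (Sets.germ_nat ξ β x s))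

variable {X X' Z E : Scheme.{u}} (f : X' ⟶ X) (i : Z ⟶ X) (g : E ⟶ Z) (j : E ⟶ X') (w : j ≫ f = g ≫ i)

/-- The comparison `j⁻¹ f⁻¹ F ≅ g⁻¹ i⁻¹ F` of a commutative square. -/
noncomputable abbrev can (F : EtDesc.Sh X) :
    (EtDesc.pullSh j).obj ((EtDesc.pullSh f).obj F) ≅ (EtDesc.pullSh g).obj ((EtDesc.pullSh i).obj F) :=
  EtDesc.pullVia j f (j ≫ f) rfl F ≪≫ (EtDesc.pullVia g i (j ≫ f) w.symm F).symm

lemma pullVia_nat {T S Y : Scheme.{u}} (p : T ⟶ S) (a : S ⟶ Y) (b : T ⟶ Y) (hb : p ≫ a = b)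
    {F G : EtDesc.Sh Y} (φ : F ⟶ G) :
    (EtDesc.pullSh p).map ((EtDesc.pullSh a).map φ) ≫ (EtDesc.pullVia p a b hb G).hom =
      (EtDesc.pullVia p a b hb F).hom ≫ (EtDesc.pullSh b).map φ :=
  ((EtDesc.pullCompSh p a).symm ≪≫ EtDesc.pullCongrSh hb).hom.naturality φ

lemma can_nat {F G : EtDesc.Sh X} (φ : F ⟶ G) :
    (EtDesc.pullSh j).map ((EtDesc.pullSh f).map φ) ≫ (can f i g j w G).hom =
      (can f i g j w F).hom ≫ (EtDesc.pullSh g).map ((EtDesc.pullSh i).map φ) := by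
  simp only [can, Iso.trans_hom, Iso.symm_hom, Category.assoc]
  rw [← Category.assoc, pullVia_nat, Category.assoc]
  congr 1
  rw [Iso.comp_inv_eq, Category.assoc, pullVia_nat]
  simp

lemma fib_iter_ext' {Ω : Type u} [Field Ω] [IsSepClosed Ω] {A B Y : Scheme.{u}} (f : A ⟶ Y) (g' : B ⟶ A)
    {ξ' : Spec (CommRingCat.of Ω) ⟶ B} {W : Y.Etale}
    (a b : fib ξ' ((EtCoh.bc g').obj ((EtCoh.bc f).obj W)))
    (h : a.left ≫ bcFst g' ((EtCoh.bc f).obj W) ≫ bcFst f W =
      b.left ≫ bcFst g' ((EtCoh.bc f).obj W) ≫ bcFst f W) : a = b := by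
  have hs : a.left ≫ pullback.snd ((EtCoh.bc f).obj W).hom g' =
      b.left ≫ pullback.snd ((EtCoh.bc f).obj W).hom g' := (Over.w a).trans (Over.w b).symm
  refine Over.OverMorphism.ext (pullback.hom_ext (pullback.hom_ext ?_ ?_) hs)
  · exact (Category.assoc _ _ _).trans (h.trans (Category.assoc _ _ _).symm)
  · have hc : bcFst g' ((EtCoh.bc f).obj W) ≫ pullback.snd W.hom f =
        pullback.snd ((EtCoh.bc f).obj W).hom g' ≫ g' := pullback.condition
    refine (Category.assoc _ _ _).trans (Eq.trans ?_ (Category.assoc _ _ _).symm)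
    refine (congrArg (a.left ≫ ·) hc).trans (Eq.trans ?_ (congrArg (b.left ≫ ·) hc.symm))
    exact (Category.assoc _ _ _).symm.trans ((congrArg (· ≫ g') hs).trans (Category.assoc _ _ _))

lemma apply_comp {A B C : Type (u + 1)} (a : A ⟶ B) (b : B ⟶ C) (q : A) : b (a q) = (a ≫ b) q :=
  (ConcreteCategory.comp_apply a b q).symm

lemma map_trans_symm_apply {C : Type*} [Category C] (Φ : C ⥤ Type (u + 1)) {P Q R : C} (a : P ≅ R) (b : Q ≅ R)
    {x : Φ.obj P} {y : Φ.obj Q} (h : Φ.map a.hom x = Φ.map b.hom y) : Φ.map (a ≪≫ b.symm).hom x = y := by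
  rw [Iso.trans_hom, Iso.symm_hom, Functor.map_comp, ConcreteCategory.comp_apply, h,
    ← ConcreteCategory.comp_apply, ← Functor.map_comp, Iso.hom_inv_id, CategoryTheory.Functor.map_id,
    ConcreteCategory.id_apply]

section Stalk

variable {Ω : Type u} [Field Ω] [IsSepClosed Ω] {A B : Scheme.{u}} (p : A ⟶ B) (η : Spec (CommRingCat.of Ω) ⟶ A)

lemma stalkPull_map_apply {G G' : EtDesc.Sh B} (φ : G ⟶ G') (q : (Sets.stalk (η ≫ p)).obj G) :
    (Sets.stalk η).map ((EtDesc.pullSh p).map φ) (Sets.stalkPull p η G q) =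
      Sets.stalkPull p η G' ((Sets.stalk (η ≫ p)).map φ q) := by
  rw [← ConcreteCategory.comp_apply, ← ConcreteCategory.comp_apply, Sets.stalkPull_nat]

lemma stalkPull_counit_apply (G : EtDesc.Sh A) (q : (Sets.stalk (η ≫ p)).obj ((EtDesc.pushSh p).obj G)) :
    (Sets.stalk η).map ((EtDesc.adjSh p).counit.app G) (Sets.stalkPull p η ((EtDesc.pushSh p).obj G) q) =
      Sets.pushStalk p η G q := by
  rw [← Sets.stalkPull_counit]
  exact (ConcreteCategory.comp_apply _ _ _).symm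

end Stalk

variable {Ω : Type u} [Field Ω] [IsSepClosed Ω] (η : Spec (CommRingCat.of Ω) ⟶ E)

lemma stalk_can_germ (G : EtDesc.Sh X) {V : X.Etale} (v : fib ((η ≫ j) ≫ f) V) (v' : fib ((η ≫ g) ≫ i) V)
    (hv : v'.left = v.left) (t : G.obj.obj (op V)) :
    (Sets.stalk η).map (can f i g j w G).hom
      (Sets.stalkPull j η _ (Sets.stalkPull f (η ≫ j) _ (Sets.germ ((η ≫ j) ≫ f) G v t))) =
      Sets.stalkPull g η _ (Sets.stalkPull i (η ≫ g) _ (Sets.germ ((η ≫ g) ≫ i) G v' t)) := by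
  let x' : fib (η ≫ j ≫ f) V := Over.homMk (v.left : Spec (CommRingCat.of Ω) ⟶ V.left)
    ((Over.w v).trans (Category.assoc _ _ _))
  exact map_trans_symm_apply (Sets.stalk η) (EtDesc.pullVia j f (j ≫ f) rfl G) (EtDesc.pullVia g i (j ≫ f) w.symm G)
    ((stalk_pullVia j f η (j ≫ f) rfl G v x' rfl t).trans (stalk_pullVia g i η (j ≫ f) w.symm G v' x' hv.symm t).symm)

lemma baseChange0_stalk (F' : EtDesc.Sh X') {V : X.Etale} (v' : fib ((η ≫ g) ≫ i) V)
    (t : ((EtDesc.pushSh f).obj F').obj.obj (op V)) :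
    (Sets.stalk (η ≫ g)).map (EtBC.baseChange0Sh f i g j w F')
      (Sets.stalkPull i (η ≫ g) ((EtDesc.pushSh f).obj F') (Sets.germ ((η ≫ g) ≫ i) ((EtDesc.pushSh f).obj F') v' t)) =
    Sets.germ (η ≫ g) ((EtDesc.pushSh g).obj ((EtDesc.pullSh j).obj F')) (liftFib i (η ≫ g) v')
      (((EtDesc.pullSh j).obj F').obj.map (sqHom f i g j w V).op
        (((EtDesc.adjSh j).unit.app F').hom.app (op ((EtCoh.bc f).obj V)) t)) := by
  rw [Sets.germ_stalkPull, Sets.germ_nat, baseChange0_germ]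

lemma germ_sqHom (F' : EtDesc.Sh X') {V : X.Etale} (v : fib ((η ≫ j) ≫ f) V) (v' : fib ((η ≫ g) ≫ i) V)
    (hv : v'.left = v.left) (s : ((EtDesc.pullSh j).obj F').obj.obj (op ((EtCoh.bc j).obj ((EtCoh.bc f).obj V)))) :
    Sets.germ η ((EtDesc.pullSh j).obj F') (liftFib g η (liftFib i (η ≫ g) v'))
      (((EtDesc.pullSh j).obj F').obj.map (sqHom f i g j w V).op s) =
    Sets.germ η ((EtDesc.pullSh j).obj F') (liftFib j η (liftFib f (η ≫ j) v)) s := by
  refine (Sets.germ_map η ((EtDesc.pullSh j).obj F') (sqHom f i g j w V) _ _).trans ?_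
  refine congrArg (fun z => Sets.germ η ((EtDesc.pullSh j).obj F') z s) (fib_iter_ext' f j _ _ ?_)
  refine (Category.assoc _ _ _).trans ((congrArg (_ ≫ ·) (sqHom_fst f i g j w V)).trans ?_)
  refine (Category.assoc _ _ _).symm.trans ((congrArg (· ≫ bcFst i V) (pullback.lift_fst _ _ _)).trans ?_)
  refine (pullback.lift_fst _ _ _).trans (Eq.symm ?_)
  refine (Category.assoc _ _ _).symm.trans ((congrArg (· ≫ bcFst f V) (pullback.lift_fst _ _ _)).trans ?_)
  exact (pullback.lift_fst _ _ _).trans hv.symm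

lemma mate_rhs (F' : EtDesc.Sh X') {V : X.Etale} (v : fib ((η ≫ j) ≫ f) V)
    (t : ((EtDesc.pushSh f).obj F').obj.obj (op V)) :
    (Sets.stalk η).map ((EtDesc.pullSh j).map ((EtDesc.adjSh f).counit.app F'))
      (Sets.stalkPull j η _ (Sets.stalkPull f (η ≫ j) _ (Sets.germ ((η ≫ j) ≫ f) ((EtDesc.pushSh f).obj F') v t))) =
    Sets.germ η ((EtDesc.pullSh j).obj F') (liftFib j η (liftFib f (η ≫ j) v))
      (((EtDesc.adjSh j).unit.app F').hom.app (op ((EtCoh.bc f).obj V)) t) := by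
  rw [stalkPull_map_apply, stalkPull_counit_apply, Sets.germ_pushStalk]
  exact Sets.germ_stalkPull j η F' _ _

omit η in
/-- The transpose of base change is the counit. -/
theorem mate_counit (F' : EtDesc.Sh X') :
    (can f i g j w ((EtDesc.pushSh f).obj F')).hom ≫
        (EtDesc.pullSh g).map (EtBC.baseChange0Sh f i g j w F') ≫
          (EtDesc.adjSh g).counit.app ((EtDesc.pullSh j).obj F') =
      (EtDesc.pullSh j).map ((EtDesc.adjSh f).counit.app F') := by
  refine hom_ext_stalk fun K _ _ η p => ?_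
  obtain ⟨p₁, rfl⟩ := (ConcreteCategory.bijective_of_isIso
    (Sets.stalkPull j η ((EtDesc.pullSh f).obj ((EtDesc.pushSh f).obj F')))).2 p
  obtain ⟨p₂, rfl⟩ := (ConcreteCategory.bijective_of_isIso
    (Sets.stalkPull f (η ≫ j) ((EtDesc.pushSh f).obj F'))).2 p₁
  obtain ⟨V, v, t, rfl⟩ := Sets.germ_surjective _ _ p₂
  let v' : fib ((η ≫ g) ≫ i) V := Over.homMk (v.left : Spec (CommRingCat.of K) ⟶ V.left)
    ((Over.w v).trans (((Category.assoc _ _ _).trans (congrArg (η ≫ ·) w)).trans (Category.assoc _ _ _).symm))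
  rw [Functor.map_comp, Functor.map_comp, ConcreteCategory.comp_apply, ConcreteCategory.comp_apply,
    stalk_can_germ f i g j w η _ v v' rfl t, stalkPull_map_apply, stalkPull_counit_apply, baseChange0_stalk,
    Sets.germ_pushStalk, germ_sqHom f i g j w η F' v v' rfl]
  exact (mate_rhs f j η F' v t).symm

/-- A transpose of a map out of a pullback, moved across the square. -/
theorem mate_adjunct {F : EtDesc.Sh X} {F' : EtDesc.Sh X'} (a : (EtDesc.pullSh f).obj F ⟶ F') :
    (can f i g j w F).hom ≫ (EtDesc.pullSh g).map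
        ((EtDesc.pullSh i).map ((EtDesc.adjSh f).homEquiv _ _ a) ≫ EtBC.baseChange0Sh f i g j w F') ≫
          (EtDesc.adjSh g).counit.app ((EtDesc.pullSh j).obj F') =
      (EtDesc.pullSh j).map a := by
  rw [Functor.map_comp, Category.assoc, ← Category.assoc, ← can_nat, Category.assoc, mate_counit,
    ← Functor.map_comp]
  exact congrArg _ ((Adjunction.homEquiv_counit _ _ _ _).symm.trans (Equiv.symm_apply_apply _ _))

end Groth.Agent.Modif24
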