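import Groth.Agent.Lib.Modif24.Mate
import Groth.Agent.Lib.SetsGabber24.ProperBC
import Groth.Agent.Lib.EtStalk.OpenImm

/-!
# Modification squares and sheaves of sets

A sheaf on `X` is glued from a sheaf on a proper modification and a sheaf on the exceptional locus.
-/

universe u

open CategoryTheory CategoryTheory.Limits AlgebraicGeometry Opposite

set_option backward.isDefEq.respectTransparency.types false

namespace Groth.Agent.Modif24

open Groth.Agent.EtStalk hiding agree isOpen_agree mem_agree_iff_germ agree_symm agree_trans agree_self eq_of_agree mem_agree_map mem_agree_unit baseChange0_germ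

variable {A B : Scheme.{u}} (p : A ⟶ B) {Ω : Type u} [Field Ω] [IsSepClosed Ω]

lemma isIso_stalk_of_pull (ζ : Spec (CommRingCat.of Ω) ⟶ A) {G G' : EtDesc.Sh B} (a : G ⟶ G')
    (h : IsIso ((EtDesc.pullSh p).map a)) : IsIso ((Sets.stalk (ζ ≫ p)).map a) := by
  have : IsIso ((Sets.stalk (ζ ≫ p)).map a ≫ Sets.stalkPull p ζ G') := by
    rw [← Sets.stalkPull_nat]
    infer_instance
  exact IsIso.of_isIso_comp_right _ (Sets.stalkPull p ζ G')

lemma isIso_stalk_pull (ζ : Spec (CommRingCat.of Ω) ⟶ A) {G G' : EtDesc.Sh B} (a : G ⟶ G')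
    (h : IsIso ((Sets.stalk (ζ ≫ p)).map a)) : IsIso ((Sets.stalk ζ).map ((EtDesc.pullSh p).map a)) := by
  have : IsIso (Sets.stalkPull p ζ G ≫ (Sets.stalk ζ).map ((EtDesc.pullSh p).map a)) := by
    rw [Sets.stalkPull_nat]
    infer_instance
  exact IsIso.of_isIso_comp_left (Sets.stalkPull p ζ G) _

lemma isIso_of_stalks {G G' : EtDesc.Sh A} (a : G ⟶ G')
    (h : ∀ (K : Type u) [Field K] [IsSepClosed K] (ζ : Spec (CommRingCat.of K) ⟶ A),
      IsIso ((Sets.stalk ζ).map a)) : IsIso a := by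
  rw [Sets.isIso_iff_stalk]
  intro K _ _ ζ
  haveI := h K ζ
  exact ConcreteCategory.bijective_of_isIso _

lemma isIso_counit_closed [IsClosedImmersion p] (G : EtDesc.Sh A) : IsIso ((EtDesc.adjSh p).counit.app G) := by
  refine isIso_of_stalks _ fun K _ _ ζ => ?_
  haveI : IsIso (Sets.pushStalk p ζ G) :=
    (ConcreteCategory.isIso_iff_bijective _).2 (Sets.bijective_pushStalk p ζ G)
  have : IsIso (Sets.stalkPull p ζ ((EtDesc.pushSh p).obj G) ≫ (Sets.stalk ζ).map ((EtDesc.adjSh p).counit.app G)) := by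
    rw [Sets.stalkPull_counit]
    infer_instance
  exact IsIso.of_isIso_comp_left (Sets.stalkPull p ζ ((EtDesc.pushSh p).obj G)) _

variable {X X' Z E U : Scheme.{u}} (f : X' ⟶ X) (i : Z ⟶ X) (u : U ⟶ X) (hU : Set.range u = (Set.range i)ᶜ)
  (j : E ⟶ X') (g : E ⟶ Z) (c : IsPullback j g f i)

include hU in
lemma hom_ext_modification [IsClosedImmersion i] [IsOpenImmersion u] (hf : IsIso (pullback.snd f u))
    {F G : EtDesc.Sh X} (a b : F ⟶ G)
    (h₁ : (EtDesc.pullSh f).map a = (EtDesc.pullSh f).map b)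
    (h₂ : (EtDesc.pullSh i).map a = (EtDesc.pullSh i).map b) : a = b := by
  refine hom_ext_stalk fun K _ _ ξ q => ?_
  refine ConcreteCategory.congr_hom (?_ : (Sets.stalk ξ).map a = (Sets.stalk ξ).map b) q
  by_cases h : ξ (default : Spec (CommRingCat.of K)) ∈ Set.range i
  · obtain ⟨ζ, rfl⟩ := exists_lift_point i ξ h
    rw [← cancel_mono (Sets.stalkPull i ζ G), ← Sets.stalkPull_nat, ← Sets.stalkPull_nat, h₂]
  · obtain ⟨ζ, rfl⟩ := exists_lift_point_open u ξ (by rw [hU]; exact h)
    let ξ' : Spec (CommRingCat.of K) ⟶ X' := ζ ≫ inv (pullback.snd f u) ≫ pullback.fst f u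
    have e : ξ' ≫ f = ζ ≫ u := by
      simp only [ξ', Category.assoc, pullback.condition, IsIso.inv_hom_id_assoc]
    rw [← e]
    rw [← cancel_mono (Sets.stalkPull f ξ' G), ← Sets.stalkPull_nat, ← Sets.stalkPull_nat, h₁]

include c hU in
/-- Gluing along a modification square, with its universal property. -/
theorem exists_glue [IsProper f] [IsClosedImmersion i] [IsOpenImmersion u] (hf : IsIso (pullback.snd f u))
    (F' : EtDesc.Sh X') (G : EtDesc.Sh Z) (α : (EtDesc.pullSh j).obj F' ≅ (EtDesc.pullSh g).obj G) :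
    ∃ (F : EtDesc.Sh X) (β : (EtDesc.pullSh f).obj F ≅ F') (γ : (EtDesc.pullSh i).obj F ≅ G),
      (EtDesc.pullSh j).map β.hom ≫ α.hom = (can f i g j c.w F).hom ≫ (EtDesc.pullSh g).map γ.hom ∧
      ∀ (F₁ : EtDesc.Sh X) (a : (EtDesc.pullSh f).obj F₁ ⟶ F') (b : (EtDesc.pullSh i).obj F₁ ⟶ G),
        (EtDesc.pullSh j).map a ≫ α.hom = (can f i g j c.w F₁).hom ≫ (EtDesc.pullSh g).map b →
        ∃ φ : F₁ ⟶ F, (EtDesc.pullSh f).map φ ≫ β.hom = a ∧ (EtDesc.pullSh i).map φ ≫ γ.hom = b := by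
  haveI : IsClosedImmersion j := MorphismProperty.of_isPullback c.flip ‹IsClosedImmersion i›
  haveI : IsIso (EtBC.baseChange0Sh f i g j c.w F') := ProperSets24.isIso_baseChange0_proper f F' i g j c
  let H := (EtDesc.pullSh g).obj G
  let m : (EtDesc.pullSh i).obj ((EtDesc.pushSh f).obj F') ⟶ (EtDesc.pushSh g).obj H :=
    EtBC.baseChange0Sh f i g j c.w F' ≫ (EtDesc.pushSh g).map α.hom
  let p : (EtDesc.pushSh f).obj F' ⟶ (EtDesc.pushSh i).obj ((EtDesc.pushSh g).obj H) :=
    (EtDesc.adjSh i).homEquiv _ _ m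
  let q : (EtDesc.pushSh i).obj G ⟶ (EtDesc.pushSh i).obj ((EtDesc.pushSh g).obj H) :=
    (EtDesc.pushSh i).map ((EtDesc.adjSh g).unit.app G)
  let F := pullback p q
  let β₀ : (EtDesc.pullSh f).obj F ⟶ F' := ((EtDesc.adjSh f).homEquiv _ _).symm (pullback.fst p q)
  let γ₀ : (EtDesc.pullSh i).obj F ⟶ G := ((EtDesc.adjSh i).homEquiv _ _).symm (pullback.snd p q)
  -- the compatibility of two transposes
  have key : ∀ (F₁ : EtDesc.Sh X) (a : (EtDesc.pullSh f).obj F₁ ⟶ F') (b : (EtDesc.pullSh i).obj F₁ ⟶ G),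
      (EtDesc.pullSh j).map a ≫ α.hom = (can f i g j c.w F₁).hom ≫ (EtDesc.pullSh g).map b ↔
      (EtDesc.adjSh f).homEquiv _ _ a ≫ p = (EtDesc.adjSh i).homEquiv _ _ b ≫ q := by
    intro F₁ a b
    rw [← mate_adjunct f i g j c.w a]
    simp only [Category.assoc, cancel_epi]
    let x := (EtDesc.pullSh i).map ((EtDesc.adjSh f).homEquiv _ _ a) ≫ EtBC.baseChange0Sh f i g j c.w F'
    have e₁ : (EtDesc.pullSh g).map x ≫ (EtDesc.adjSh g).counit.app ((EtDesc.pullSh j).obj F') ≫ α.hom =
        ((EtDesc.adjSh g).homEquiv _ _).symm (x ≫ (EtDesc.pushSh g).map α.hom) := by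
      rw [Adjunction.homEquiv_naturality_right_symm, Adjunction.homEquiv_counit, Category.assoc]
    have e₂ : (EtDesc.adjSh g).homEquiv _ _ ((EtDesc.pullSh g).map b) = b ≫ (EtDesc.adjSh g).unit.app G := by
      rw [Adjunction.homEquiv_unit]
      exact ((EtDesc.adjSh g).unit.naturality b).symm
    have e₃ : (EtDesc.adjSh i).homEquiv _ _ (x ≫ (EtDesc.pushSh g).map α.hom) =
        (EtDesc.adjSh f).homEquiv _ _ a ≫ p := by
      simp only [x, p, m, Category.assoc]
      rw [Adjunction.homEquiv_naturality_left]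
    have e₄ : (EtDesc.adjSh i).homEquiv _ _ (b ≫ (EtDesc.adjSh g).unit.app G) =
        (EtDesc.adjSh i).homEquiv _ _ b ≫ q := Adjunction.homEquiv_naturality_right _ _ _
    have hi : x ≫ (EtDesc.pushSh g).map α.hom = b ≫ (EtDesc.adjSh g).unit.app G ↔
        (EtDesc.adjSh i).homEquiv _ _ (x ≫ (EtDesc.pushSh g).map α.hom) =
          (EtDesc.adjSh i).homEquiv _ _ (b ≫ (EtDesc.adjSh g).unit.app G) :=
      ((EtDesc.adjSh i).homEquiv _ _).apply_eq_iff_eq.symm
    rw [e₁, Equiv.symm_apply_eq, e₂, hi, e₃, e₄]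
  have hw : (EtDesc.pullSh j).map β₀ ≫ α.hom = (can f i g j c.w F).hom ≫ (EtDesc.pullSh g).map γ₀ := by
    rw [key]
    simp only [β₀, γ₀, Equiv.apply_symm_apply]
    exact pullback.condition
  have hγ : IsIso γ₀ := by
    haveI : IsIso m := inferInstance
    haveI := isIso_counit_closed i ((EtDesc.pushSh g).obj H)
    haveI := isIso_counit_closed i G
    have hm₀ : IsIso (((EtDesc.adjSh i).homEquiv _ _).symm p) := by
      rw [Equiv.symm_apply_apply]
      infer_instance
    have hm : IsIso ((EtDesc.pullSh i).map p ≫ (EtDesc.adjSh i).counit.app _) := by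
      rw [Adjunction.homEquiv_counit] at hm₀
      exact hm₀
    have hp : IsIso ((EtDesc.pullSh i).map p) := IsIso.of_isIso_comp_right _ ((EtDesc.adjSh i).counit.app _)
    haveI : IsIso ((EtDesc.pullSh i).map (pullback.snd p q)) := isIso_of_stalks _ fun K _ _ ζ =>
      isIso_stalk_pull i ζ _ (((IsPullback.of_hasPullback p q).map (Sets.stalk (ζ ≫ i))).isIso_snd_of_isIso
        (isIso_stalk_of_pull i ζ p hp))
    show IsIso (((EtDesc.adjSh i).homEquiv _ _).symm (pullback.snd p q))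
    rw [Adjunction.homEquiv_counit]
    infer_instance
  have hβ : IsIso β₀ := isIso_of_stalks _ fun K _ _ ξ => by
    by_cases h : ξ (default : Spec (CommRingCat.of K)) ∈ Set.range j
    · obtain ⟨ζ, rfl⟩ := exists_lift_point j ξ h
      refine isIso_stalk_of_pull j ζ β₀ ?_
      have : IsIso ((EtDesc.pullSh j).map β₀ ≫ α.hom) := by
        rw [hw]
        haveI := hγ
        infer_instance
      exact IsIso.of_isIso_comp_right _ α.hom
    · have hi : (ξ ≫ f) (default : Spec (CommRingCat.of K)) ∉ Set.range i := by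
        rintro ⟨z, hz⟩
        obtain ⟨e, he, -⟩ := Scheme.exists_preimage_of_isPullback c (ξ default) z
          ((Scheme.Hom.comp_apply _ _ _).symm.trans hz.symm)
        exact h ⟨e, he⟩
      -- the counit of the modification
      have hε : IsIso ((Sets.stalk ξ).map ((EtDesc.adjSh f).counit.app F')) := by
        obtain ⟨ζ, hζ⟩ := exists_lift_point_open u (ξ ≫ f) (by rw [hU]; exact hi)
        let ξ' := pullback.lift ξ ζ hζ.symm
        rw [← show ξ' ≫ pullback.fst f u = ξ from pullback.lift_fst _ _ _]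
        refine isIso_stalk_of_pull (pullback.fst f u) ξ' _ ?_
        haveI := hf
        haveI : IsClosedImmersion (pullback.snd f u) := inferInstance
        haveI := isIso_counit_closed (pullback.snd f u) ((EtDesc.pullSh (pullback.fst f u)).obj F')
        haveI := ProperSets24.isIso_baseChange0_proper f F' u (pullback.snd f u) (pullback.fst f u)
          (IsPullback.of_hasPullback f u)
        rw [← mate_counit f u (pullback.snd f u) (pullback.fst f u) pullback.condition F']
        infer_instance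
      have hq : IsIso ((Sets.stalk (ξ ≫ f)).map q) := by
        rw [ConcreteCategory.isIso_iff_bijective]
        obtain ⟨u₁⟩ := Sets.stalk_push_unique i G (ξ ≫ f) hi
        obtain ⟨u₂⟩ := Sets.stalk_push_unique i ((EtDesc.pushSh g).obj H) (ξ ≫ f) hi
        exact ⟨fun _ _ _ => (u₁.eq_default _).trans (u₁.eq_default _).symm,
          fun y => ⟨u₁.default, (u₂.eq_default _).trans (u₂.eq_default y).symm⟩⟩
      haveI := isIso_stalk_pull f ξ _
        (((IsPullback.of_hasPullback p q).map (Sets.stalk (ξ ≫ f))).isIso_fst_of_isIso hq)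
      show IsIso ((Sets.stalk ξ).map (((EtDesc.adjSh f).homEquiv _ _).symm (pullback.fst p q)))
      rw [Adjunction.homEquiv_counit, Functor.map_comp]
      infer_instance
  refine ⟨F, @asIso _ _ _ _ β₀ hβ, @asIso _ _ _ _ γ₀ hγ, hw, fun F₁ a b hab => ?_⟩
  refine ⟨pullback.lift _ _ ((key F₁ a b).1 hab), ?_, ?_⟩
  · show (EtDesc.pullSh f).map _ ≫ β₀ = a
    rw [← Adjunction.homEquiv_naturality_left_symm, pullback.lift_fst, Equiv.symm_apply_apply]
  · show (EtDesc.pullSh i).map _ ≫ γ₀ = b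
    rw [← Adjunction.homEquiv_naturality_left_symm, pullback.lift_snd, Equiv.symm_apply_apply]

include c hU in
/-- Maps are glued along a modification square. -/
theorem existsUnique_glue_hom [IsProper f] [IsClosedImmersion i] [IsOpenImmersion u]
    (hf : IsIso (pullback.snd f u)) (F₁ F₂ : EtDesc.Sh X)
    (a : (EtDesc.pullSh f).obj F₁ ⟶ (EtDesc.pullSh f).obj F₂)
    (b : (EtDesc.pullSh i).obj F₁ ⟶ (EtDesc.pullSh i).obj F₂)
    (hab : (EtDesc.pullSh j).map a ≫ (can f i g j c.w F₂).hom =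
      (can f i g j c.w F₁).hom ≫ (EtDesc.pullSh g).map b) :
    ∃! φ : F₁ ⟶ F₂, (EtDesc.pullSh f).map φ = a ∧ (EtDesc.pullSh i).map φ = b := by
  obtain ⟨F, β, γ, -, huniv⟩ := exists_glue f i u hU j g c hf _ _ (can f i g j c.w F₂)
  obtain ⟨d, hd₁, hd₂⟩ := huniv F₂ (𝟙 _) (𝟙 _) (by
    rw [CategoryTheory.Functor.map_id, CategoryTheory.Functor.map_id, Category.id_comp, Category.comp_id])
  have h₁ : IsIso ((EtDesc.pullSh f).map d) := by
    have : IsIso ((EtDesc.pullSh f).map d ≫ β.hom) := by rw [hd₁]; infer_instance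
    exact IsIso.of_isIso_comp_right _ β.hom
  have h₂ : IsIso ((EtDesc.pullSh i).map d) := by
    have : IsIso ((EtDesc.pullSh i).map d ≫ γ.hom) := by rw [hd₂]; infer_instance
    exact IsIso.of_isIso_comp_right _ γ.hom
  haveI : IsIso d := isIso_of_stalks _ fun K _ _ ξ => by
    by_cases h : ξ (default : Spec (CommRingCat.of K)) ∈ Set.range i
    · obtain ⟨ζ, rfl⟩ := exists_lift_point i ξ h
      exact isIso_stalk_of_pull i ζ d h₂
    · obtain ⟨ζ, rfl⟩ := exists_lift_point_open u ξ (by rw [hU]; exact h)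
      let ξ' : Spec (CommRingCat.of K) ⟶ X' := ζ ≫ inv (pullback.snd f u) ≫ pullback.fst f u
      rw [show ζ ≫ u = ξ' ≫ f by simp only [ξ', Category.assoc, pullback.condition, IsIso.inv_hom_id_assoc]]
      exact isIso_stalk_of_pull f ξ' d h₁
  obtain ⟨φ, hφ₁, hφ₂⟩ := huniv F₁ a b hab
  have e₁ : (EtDesc.pullSh f).map (φ ≫ inv d) = a := by
    rw [← cancel_mono ((EtDesc.pullSh f).map d), ← Functor.map_comp, Category.assoc, IsIso.inv_hom_id,
      Category.comp_id, ← cancel_mono β.hom, hφ₁, Category.assoc, hd₁, Category.comp_id]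
  have e₂ : (EtDesc.pullSh i).map (φ ≫ inv d) = b := by
    rw [← cancel_mono ((EtDesc.pullSh i).map d), ← Functor.map_comp, Category.assoc, IsIso.inv_hom_id,
      Category.comp_id, ← cancel_mono γ.hom, hφ₂, Category.assoc, hd₂, Category.comp_id]
  exact ⟨φ ≫ inv d, ⟨e₁, e₂⟩, fun ψ hψ =>
    hom_ext_modification f i u hU hf ψ _ (hψ.1.trans e₁.symm) (hψ.2.trans e₂.symm)⟩

end Groth.Agent.Modif24
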